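import Groth.Agent.Coherent.K51.CIConn
import Groth.Agent.Coherent.K51.CIDim
import Groth.Agent.Curves.K327.GGTensor
import Groth.Agent.Sga67.CMReg
import Groth.Agent.VarietyB.GGStalk
import Groth.Agent.S4466
import Groth.Agent.CycB.DegCurve

/-!
# The top cohomology of the twists of a complete intersection in projective space

`Top f d e` for `f : X ⟶ P^N`: `H^d(X, f^* O(i)) = 0` for `i > e`, and `H^d(X, f^* O(e)) ≠ 0`.
`top_ci`: `V(G_1, …, G_r) → P^N` is `Top (N - r) (Σ deg G_j - N - 1)` for a regular sequence of forms, `r < N`.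
-/

set_option autoImplicit false
universe u

open CategoryTheory AlgebraicGeometry Limits TopologicalSpace Opposite MvPolynomial

namespace K250.CITop

open LefPen Groth.Agent Groth.Agent.Lefpen.H718.Chart Groth.Agent.Coherent.K51 Groth.Agent.Coherent.K51.CIGood
open Groth.Agent.Flat2F.HHSeq

variable {X Y Z : Scheme.{u}} {N : ℕ} {k : Type u} [Field k]

/-- `f^* O(i)`. -/
noncomputable abbrev tw (f : X ⟶ CohB1.ProjSpace N k) (i : ℤ) : X.Modules :=
  (Scheme.Modules.pullback f).obj (Twist.twistProjSpace N k i)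

theorem isInvertible_tw (f : X ⟶ CohB1.ProjSpace N k) (i : ℤ) : PicF.IsInvertible (tw f i) :=
  Fdesc.LocGen.isInvertible_pullback f (Ega3B.ProjFrame.isInvertible_twistProjSpace N k i)

/-- `H^d(X, f^* O(i)) = 0` for `i > e`, and `H^d(X, f^* O(e)) ≠ 0`. -/
structure Top (f : X ⟶ CohB1.ProjSpace N k) (d : ℕ) (e : ℤ) : Prop where
  van : ∀ i : ℤ, e < i → Subsingleton (Coh.HH X (tw f i) d)
  nv : ¬ Subsingleton (Coh.HH X (tw f e) d)

theorem hh_iso_iff (u : X ≅ Y) (f : Y ⟶ CohB1.ProjSpace N k) (i : ℤ) (d : ℕ) :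
    Subsingleton (Coh.HH X (tw (u.hom ≫ f) i) d) ↔ Subsingleton (Coh.HH Y (tw f i) d) := by
  constructor
  · intro h0
    have h1 : Subsingleton (Coh.HH X ((Scheme.Modules.pullback u.hom).obj (tw f i)) d) :=
      subsingleton_HH_of_iso ((Scheme.Modules.pullbackComp u.hom f).symm.app _) d h0
    have h2 := subsingleton_HH_pullback_iso u.symm _ d h1
    exact subsingleton_HH_of_iso ((Scheme.Modules.pullbackComp u.inv u.hom).app _ ≪≫
      (Scheme.Modules.pullbackCongr u.inv_hom_id).app _ ≪≫ (Scheme.Modules.pullbackId Y).app _) d h2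
  · intro h0
    exact subsingleton_HH_of_iso ((Scheme.Modules.pullbackComp u.hom f).app _) d
      (subsingleton_HH_pullback_iso u _ d h0)

theorem Top.iso_comp {f : Y ⟶ CohB1.ProjSpace N k} {d : ℕ} {e : ℤ} (h : Top f d e) (u : X ≅ Y) :
    Top (u.hom ≫ f) d e where
  van i hi := (hh_iso_iff u f i d).2 (h.van i hi)
  nv h0 := h.nv ((hh_iso_iff u f e d).1 h0)

/-- The induction step. -/
theorem Top.step {f : Y ⟶ CohB1.ProjSpace N k} {d : ℕ} {e : ℤ} (hg : Good f (d + 1)) (h : Top f (d + 1) e)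
    (hd : 1 ≤ d) (J : Y.IdealSheafData) {b : ℕ} (hb : 1 ≤ b)
    (hJ : Nonempty (ClSub.idealMod J ≅ (Scheme.Modules.pullback f).obj (Twist.twistProjSpace N k (-(b : ℤ))))) :
    Top (J.subschemeι ≫ f) d (e + b) where
  van i hi := by
    obtain ⟨t⟩ := nonempty_tensor_ideal f J hJ i
    have h1 := subsingleton_closed J (M := tw f i) (isInvertible_tw f i) d (hg.van i d (by omega) (by omega))
      (subsingleton_HH_of_iso t.symm (d + 1) (h.van (i - b) (by omega)))
    exact subsingleton_HH_of_iso ((Scheme.Modules.pullbackComp J.subschemeι f).app _) d h1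
  nv h0 := by
    obtain ⟨w, hw⟩ := shortExact_ideal J
    have hM := FormalA.ThickSurj.isFinLocFree_of_isInvertible (isInvertible_tw f (e + b))
    have h3 := Sga67.TensorOps.tensor_shortExact hM hw
    have h1 : Subsingleton (Coh.HH J.subscheme ((Scheme.Modules.pullback J.subschemeι).obj (tw f (e + b))) d) :=
      subsingleton_HH_of_iso ((Scheme.Modules.pullbackComp J.subschemeι f).symm.app _) d h0
    have h1' : Subsingleton (Coh.HH Y ((Coh.push J.subschemeι).obj
        ((Scheme.Modules.pullback J.subschemeι).obj (tw f (e + b)))) d) :=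
      (CurvesC.CurveNum.hhPush J.subschemeι _ d).symm.toEquiv.subsingleton
    have h5 := subsingleton_HH_of_iso
      (VarietyB.ProjForm.projIsoUnit J.subschemeι (VarietyB.TensCoh.HasBases.of_isFinLocFree hM)).symm d h1'
    have h2 := subsingleton_HH_of_iso (Ega2.Tens.runit (tw f (e + b))).symm (d + 1) (h.van (e + b) (by omega))
    have h4 := subsingleton_HH_left h3 d h5 h2
    obtain ⟨t⟩ := nonempty_tensor_ideal f J hJ (e + b)
    have h6 := subsingleton_HH_of_iso t (d + 1) h4
    rw [add_sub_cancel_right] at h6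
    exact h.nv h6

/-- Projective space. -/
theorem top_iso (hN : 1 ≤ N) (u : X ≅ CohB1.ProjSpace N k) : Top u.hom N (-((N : ℤ) + 1)) := by
  have e1 : u.hom = u.hom ≫ 𝟙 _ := (Category.comp_id _).symm
  have e2 : ∀ i : ℤ, Subsingleton (Coh.HH (CohB1.ProjSpace N k) (tw (𝟙 _) i) N) ↔
      Subsingleton (Coh.HH (CohB1.ProjSpace N k) (Twist.twistProjSpace N k i) N) := fun i =>
    ⟨subsingleton_HH_of_iso ((Scheme.Modules.pullbackId _).app _) N,
      subsingleton_HH_of_iso ((Scheme.Modules.pullbackId _).symm.app _) N⟩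
  have h : Top (𝟙 (CohB1.ProjSpace N k)) N (-((N : ℤ) + 1)) := by
    refine ⟨fun i hi => (e2 i).2 (S0844.result k N i N (by omega) (by omega)), fun h0 => ?_⟩
    have h0' := (e2 _).1 h0
    have h1 := S4466.result k N (by omega) (-((N : ℤ) + 1))
    have h2 : ∀ j ∈ Finset.range (N + 1), (-1 : ℤ) ^ j * (Module.finrank k (Coh.HH (CohB1.ProjSpace N k)
        (Twist.twistProjSpace N k (-((N : ℤ) + 1))) j) : ℤ) = 0 := by
      intro j _
      have h3 : Subsingleton (Coh.HH (CohB1.ProjSpace N k) (Twist.twistProjSpace N k (-((N : ℤ) + 1))) j) := by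
        by_cases hj : j = N
        · rw [hj]; exact h0'
        · exact S0844.result k N _ j (by omega) (by omega)
      rw [Module.finrank_zero_of_subsingleton]
      simp
    rw [Finset.sum_eq_zero h2] at h1
    have h4 : (-((N : ℤ) + 1) + N) = -1 := by ring
    rw [h4, Ring.choose_neg] at h1
    have h5 : (1 : ℤ) + N - 1 = ((N : ℕ) : ℤ) := by ring
    rw [h5, Ring.choose_natCast, Nat.choose_self] at h1
    have h6 : ((N : ℤ).negOnePow • (1 : ℤ)) ≠ 0 := by
      rcases Int.units_eq_one_or (N : ℤ).negOnePow with h7 | h7 <;> rw [h7] <;> norm_num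
    apply h6
    rw [h1]
    simp
  rw [e1]
  exact h.iso_comp u

theorem top_zero (hN : 1 ≤ N) {a : Fin 0 → ℕ} (G : ∀ j : Fin 0, Form N k (a j)) :
    Top (ciIdeal G).subschemeι N (-((N : ℤ) + 1)) := by
  have h1 : ciIdeal G = ⊥ := by
    rw [ciIdeal, iSup_of_empty]
  have h2 : IsIso (ciIdeal G).subschemeι := by
    rw [h1]
    infer_instance
  exact top_iso hN (asIso (ciIdeal G).subschemeι)

/-- The top cohomology of complete intersections. -/
theorem top_ci : ∀ (r : ℕ) (_ : r < N) (a : Fin r → ℕ) (_ : ∀ j, 1 ≤ a j) (G : ∀ j : Fin r, Form N k (a j)),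
    CIReg.IsReg G → Top (ciIdeal G).subschemeι (N - r) ((∑ j, (a j : ℤ)) - ((N : ℤ) + 1))
  | 0, hr, a, _, G, _ => by
    have h := top_zero (k := k) (by omega) G
    rw [Fin.sum_univ_zero, zero_sub]
    exact h
  | r + 1, hr, a, ha, G, hG => by
    have ih := top_ci r (by omega) _ (fun j => ha j.castSucc) (fun j : Fin r => G j.castSucc) hG.castSucc
    have ig := good_ci r (by omega) _ (fun j : Fin r => G j.castSucc) hG.castSucc
    have hs : N - (r + 1) + 1 = N - r := by omega
    have h1 := Top.step (d := N - (r + 1)) (by rw [hs]; exact ig) (by rw [hs]; exact ih) (by omega)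
      ((hypIdeal (G (Fin.last r))).comap (yι (fun j : Fin r => G j.castSucc))) (ha (Fin.last r))
      (CIStep.nonempty_iso (fun j : Fin r => G j.castSucc) (G (Fin.last r)) hG.fn_mem_nonZeroDivisors)
    obtain ⟨e, he⟩ := CIReg.exists_ciIso G
    have h2 := h1.iso_comp e
    have h3 : (∑ j : Fin r, (a j.castSucc : ℤ)) - ((N : ℤ) + 1) + (a (Fin.last r) : ℤ) =
        (∑ j, (a j : ℤ)) - ((N : ℤ) + 1) := by
      rw [Fin.sum_univ_castSucc]
      ring
    rw [h3, he] at h2
    exact h2

/-- On a curve, `H^1(O(i)) = 0` implies `H^1(O(i + 1)) = 0`. -/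
theorem van_succ [IsNoetherian X] (hdim : topologicalKrullDim X ≤ 1) (f : X ⟶ CohB1.ProjSpace N k) (i : ℤ)
    (h : Subsingleton (Coh.HH X (tw f i) 1)) : Subsingleton (Coh.HH X (tw f (i + 1)) 1) := by
  have hreg : Sga67.CMReg.Reg (Coh.structureModule (CohB1.ProjSpace N k)) 0 := by
    intro q hq hqN
    refine subsingleton_HH_of_iso (Ega2.Tens.lunit _).symm q (S0844.result k N _ q (by omega) (by omega))
  have hgg := VarietyB.GGStalk.isGloballyGenerated_pullback f _ (Ega2.GlobGenCrit.isGloballyGenerated_of_iso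
    (Ega2.Tens.lunit _) (Sga67.CMReg.isGloballyGenerated (CurvesC.UnitCoh.isCoh_unit _).1 hreg 1 (by norm_num)))
  have hcoh : Coh.IsCoh (tw f 1) := by
    have : IsLocallyNoetherian X := inferInstance
    exact CycB.DegCurve.isCoh_of_isInvertible (isInvertible_tw f 1)
  have h1 := Curves.K327.GGTensor.subsingleton_H1_tensor hdim hcoh hgg h
  obtain ⟨e⟩ := nonempty_mul (N := N) (k := k) 1 i
  have e2 := (Ega3B.PullTensor.pullTensorIso f (Ega3B.ProjFrame.isInvertible_twistProjSpace N k 1)
    (Ega3B.ProjFrame.isInvertible_twistProjSpace N k i)).symm ≪≫ (Scheme.Modules.pullback f).mapIso e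
  rw [add_comm i 1]
  exact subsingleton_HH_of_iso e2 1 h1

theorem van_of_le [IsNoetherian X] (hdim : topologicalKrullDim X ≤ 1) (f : X ⟶ CohB1.ProjSpace N k) {i j : ℤ}
    (hij : i ≤ j) (h : Subsingleton (Coh.HH X (tw f i) 1)) : Subsingleton (Coh.HH X (tw f j) 1) := by
  obtain ⟨n, rfl⟩ := Int.le.dest hij
  induction n with
  | zero => simpa using h
  | succ n ih =>
    have h1 := van_succ hdim f _ (ih (by omega))
    push_cast
    rw [← add_assoc]
    exact h1

end K250.CITop
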